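import Mathlib.RingTheory.FinitePresentation
import Mathlib.RingTheory.TensorProduct.Basic
import Mathlib.LinearAlgebra.TensorProduct.RightExactness
import Mathlib.Algebra.Module.Projective
import Mathlib.RingTheory.Finiteness.Cardinality
import Mathlib.RingTheory.TensorProduct.MvPolynomial

/-! The Weil restriction of a finitely presented algebra along a finite projective ring extension. -/

universe u

open scoped TensorProduct
open Algebra.TensorProduct (map)

noncomputable section

namespace Groth.Agent.WeilAlg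

variable {B B' : Type u} [CommRing B] [CommRing B'] [Algebra B B']

/-- The coordinate of `z` along a linear form on `B'`. -/
def coord (τ : B' →ₗ[B] B) (C : Type u) [CommRing C] [Algebra B C] : B' ⊗[B] C →ₗ[B] C :=
  (TensorProduct.lid B C).toLinearMap.comp (LinearMap.rTensor C τ)

theorem coord_tmul (τ : B' →ₗ[B] B) (C : Type u) [CommRing C] [Algebra B C] (x : B') (c : C) :
    coord τ C (x ⊗ₜ c) = τ x • c := by
  simp [coord]

theorem coord_map (τ : B' →ₗ[B] B) {C D : Type u} [CommRing C] [Algebra B C] [CommRing D] [Algebra B D]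
    (w : C →ₐ[B] D) (z : B' ⊗[B] C) : coord τ D (map (AlgHom.id B' B') w z) = w (coord τ C z) := by
  induction z using TensorProduct.induction_on with
  | zero => simp
  | tmul x c => simp [coord_tmul]
  | add x y hx hy => simp [map_add, hx, hy]

theorem sum_coord {n : ℕ} (b : Fin n → B') (τ : Fin n → B' →ₗ[B] B) (hb : ∀ x, ∑ j, τ j x • b j = x)
    (C : Type u) [CommRing C] [Algebra B C] (z : B' ⊗[B] C) : ∑ j, b j ⊗ₜ[B] coord (τ j) C z = z := by
  induction z using TensorProduct.induction_on with
  | zero => simp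
  | tmul x c =>
    simp only [coord_tmul, TensorProduct.tmul_smul]
    calc ∑ j, τ j x • (b j ⊗ₜ[B] c) = (∑ j, τ j x • b j) ⊗ₜ[B] c := by
          rw [TensorProduct.sum_tmul]; exact Finset.sum_congr rfl fun j _ => rfl
      _ = _ := by rw [hb]
  | add x y hx hy => simp only [map_add, TensorProduct.tmul_add, Finset.sum_add_distrib, hx, hy]

variable (B B')

/-- The Weil restriction exists as an algebra of finite presentation. -/
theorem exists_rep [Module.Finite B B'] [Module.Projective B B'] (A' : Type u) [CommRing A'] [Algebra B' A']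
    [Algebra.FinitePresentation B' A'] :
    ∃ (W : Type u) (_ : CommRing W) (_ : Algebra B W) (ξ : A' →ₐ[B'] B' ⊗[B] W),
      Algebra.FinitePresentation B W ∧ ∀ (C : Type u) [CommRing C] [Algebra B C],
        Function.Bijective (fun w : W →ₐ[B] C => (map (AlgHom.id B' B') w).comp ξ) := by
  classical
  obtain ⟨m, π, hπ, ⟨gens, hgens⟩⟩ := Algebra.FinitePresentation.out (R := B') (A := A')
  obtain ⟨n, s, hs⟩ := Module.Finite.exists_fin' B B'
  obtain ⟨t, ht⟩ := Module.projective_lifting_property s LinearMap.id hs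
  let b : Fin n → B' := fun j => s (Pi.single j 1)
  let τ : Fin n → B' →ₗ[B] B := fun j => (LinearMap.proj j).comp t
  have hb : ∀ x, ∑ j, τ j x • b j = x := fun x => by
    have h : s (t x) = x := LinearMap.congr_fun ht x
    conv_rhs => rw [← h, pi_eq_sum_univ' (t x)]
    simp only [map_sum, map_smul]
    rfl
  let P0 := MvPolynomial (Fin m × Fin n) B
  let ξ0 : Fin m → B' ⊗[B] P0 := fun i => ∑ j, b j ⊗ₜ[B] MvPolynomial.X (i, j)
  let ev : MvPolynomial (Fin m) B' →ₐ[B'] B' ⊗[B] P0 := MvPolynomial.aeval ξ0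
  let rels : Finset P0 :=
    (Finset.univ.image fun ij : Fin m × Fin n => coord (τ ij.2) P0 (ξ0 ij.1) - MvPolynomial.X ij) ∪
      ((gens ×ˢ (Finset.univ : Finset (Fin n))).image fun fj => coord (τ fj.2) P0 (ev fj.1))
  let Rel : Ideal P0 := Ideal.span (rels : Set P0)
  let qW : P0 →ₐ[B] P0 ⧸ Rel := Ideal.Quotient.mkₐ B Rel
  have hkill : ∀ r ∈ rels, qW r = 0 := fun r hr => Ideal.Quotient.eq_zero_iff_mem.mpr (Ideal.subset_span hr)
  have hle : RingHom.ker π.toRingHom ≤ RingHom.ker ((map (AlgHom.id B' B') qW).comp ev).toRingHom := by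
    rw [← hgens, Ideal.span_le]
    intro f hf
    show map (AlgHom.id B' B') qW (ev f) = 0
    rw [← sum_coord b τ hb _ (map (AlgHom.id B' B') qW (ev f))]
    refine Finset.sum_eq_zero fun j _ => ?_
    rw [coord_map, hkill _ (Finset.mem_union_right _ (Finset.mem_image.mpr
      ⟨(f, j), Finset.mem_product.mpr ⟨hf, Finset.mem_univ _⟩, rfl⟩)), TensorProduct.tmul_zero]
  let ξ : A' →ₐ[B'] B' ⊗[B] (P0 ⧸ Rel) := (Ideal.Quotient.liftₐ (RingHom.ker π.toRingHom) ((map (AlgHom.id B' B') qW).comp ev) fun a ha => hle ha).comp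
    (Ideal.quotientKerAlgEquivOfSurjective hπ).symm.toAlgHom
  have hξ : ∀ p, ξ (π p) = map (AlgHom.id B' B') qW (ev p) :=
    fun p => by
      show (Ideal.Quotient.liftₐ (RingHom.ker π.toRingHom) ((map (AlgHom.id B' B') qW).comp ev) fun a ha => hle ha) ((Ideal.quotientKerAlgEquivOfSurjective hπ).symm (π p)) = _
      rw [Ideal.quotientKerAlgEquivOfSurjective_symm_apply]
      rfl
  refine ⟨P0 ⧸ Rel, inferInstance, inferInstance, ξ, Algebra.FinitePresentation.quotient ⟨rels, rfl⟩,
    fun C _ _ => ⟨fun w₁ w₂ h => ?_, fun ψ => ?_⟩⟩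
  · refine Ideal.Quotient.algHom_ext B (MvPolynomial.algHom_ext fun ij => ?_)
    have key : ∀ w : P0 ⧸ Rel →ₐ[B] C,
        w (qW (MvPolynomial.X ij)) = coord (τ ij.2) C (map (AlgHom.id B' B') w (ξ (π (MvPolynomial.X ij.1)))) := by
      intro w
      rw [coord_map, hξ, coord_map]
      have h0 := hkill (coord (τ ij.2) P0 (ξ0 ij.1) - MvPolynomial.X ij)
        (Finset.mem_union_left _ (Finset.mem_image.mpr ⟨ij, Finset.mem_univ _, rfl⟩))
      rw [map_sub, sub_eq_zero] at h0
      rw [← h0]
      simp [ev]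
    show w₁ (qW _) = w₂ (qW _)
    rw [key, key]
    exact congrArg (coord (τ ij.2) C) (AlgHom.congr_fun h _)
  · let φ : P0 →ₐ[B] C := MvPolynomial.aeval fun ij => coord (τ ij.2) C (ψ (π (MvPolynomial.X ij.1)))
    have hφ : ∀ p, map (AlgHom.id B' B') φ (ev p) = ψ (π p) := by
      intro p
      have : (map (AlgHom.id B' B') φ).comp ev = ψ.comp π := MvPolynomial.algHom_ext fun i => by
        show map (AlgHom.id B' B') φ (ev (MvPolynomial.X i)) = ψ (π (MvPolynomial.X i))
        conv_rhs => rw [← sum_coord b τ hb _ (ψ (π (MvPolynomial.X i)))]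
        simp only [ev, ξ0, φ, MvPolynomial.aeval_X, map_sum, Algebra.TensorProduct.map_tmul, AlgHom.id_apply]
        exact Finset.sum_congr rfl fun j _ => by erw [MvPolynomial.aeval_X]
      exact AlgHom.congr_fun this p
    have hRel : ∀ a ∈ Rel, φ a = 0 := by
      suffices Rel ≤ RingHom.ker φ.toRingHom from fun a ha => this ha
      refine Ideal.span_le.mpr fun r hr => ?_
      show φ r = 0
      rcases Finset.mem_union.mp hr with hr | hr
      · obtain ⟨ij, -, rfl⟩ := Finset.mem_image.mp hr
        have h := hφ (MvPolynomial.X ij.1)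
        rw [show ev (MvPolynomial.X ij.1) = ξ0 ij.1 by simp [ev]] at h
        rw [map_sub, ← coord_map, h, sub_eq_zero]
        simp only [φ]
        erw [MvPolynomial.aeval_X]
      · obtain ⟨⟨f, j⟩, hfj, rfl⟩ := Finset.mem_image.mp hr
        rw [← coord_map, hφ]
        have hf : π f = 0 := by
          have : f ∈ RingHom.ker π.toRingHom := hgens ▸ Submodule.subset_span (Finset.mem_product.mp hfj).1
          exact this
        rw [hf, map_zero, map_zero]
    refine ⟨Ideal.Quotient.liftₐ Rel φ hRel, AlgHom.ext fun a => ?_⟩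
    obtain ⟨p, rfl⟩ := hπ a
    show map (AlgHom.id B' B') _ (ξ (π p)) = _
    rw [hξ, ← hφ]
    have hc : (map (AlgHom.id B' B') (Ideal.Quotient.liftₐ Rel φ hRel)).comp (map (AlgHom.id B' B') qW) =
        map (AlgHom.id B' B') φ := Algebra.TensorProduct.ext' fun x y => by
      simp only [AlgHom.comp_apply, Algebra.TensorProduct.map_tmul, AlgHom.id_apply]
      rfl
    exact AlgHom.congr_fun hc (ev p)

end Groth.Agent.WeilAlg
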