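import Groth.Agent.WeilAlg.Construct
import Mathlib.AlgebraicGeometry.Pullbacks
import Mathlib.AlgebraicGeometry.Gluing
import Mathlib.AlgebraicGeometry.Cover.Open
import Mathlib.AlgebraicGeometry.AffineScheme

/-! A Weil restriction of an affine scheme is the spectrum of the Weil restriction algebra. -/

universe u

open CategoryTheory Limits AlgebraicGeometry
open scoped TensorProduct

noncomputable section

namespace Groth.Agent.WeilAlg

section glue

variable {S : Scheme.{u}}

/-- A morphism of `S`-schemes bijective on points with values in affine schemes is an isomorphism. -/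
theorem isIso_of_affine_bijective {P R : Over S} (θ : P ⟶ R)
    (h : ∀ (C : CommRingCat.{u}) (f : Spec C ⟶ S), Function.Bijective fun g : Over.mk f ⟶ P => g ≫ θ) : IsIso θ := by
  have inj : ∀ (Y : Over S) (a b : Y ⟶ P), a ≫ θ = b ≫ θ → a = b := by
    intro Y a b hab
    refine Over.OverMorphism.ext (Scheme.Cover.hom_ext Y.left.affineOpenCover.openCover _ _ fun i => ?_)
    let t : Over.mk (Y.left.affineOpenCover.openCover.f i ≫ Y.hom) ⟶ Y := Over.homMk (Y.left.affineOpenCover.openCover.f i) rfl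
    have h' : t ≫ a = t ≫ b := (h _ _).1
      ((Category.assoc t a θ).trans ((congrArg (t ≫ ·) hab).trans (Category.assoc t b θ).symm))
    exact congrArg Over.Hom.left h'
  have surj : ∀ (Y : Over S) (r : Y ⟶ R), ∃ a : Y ⟶ P, a ≫ θ = r := by
    intro Y r
    let 𝒰 := Y.left.affineOpenCover.openCover
    let t : ∀ i, Over.mk (𝒰.f i ≫ Y.hom) ⟶ Y := fun i => Over.homMk (𝒰.f i) rfl
    choose b hb using fun i => (h _ (𝒰.f i ≫ Y.hom)).2 (t i ≫ r)
    have hcomp : ∀ i j, pullback.fst (𝒰.f i) (𝒰.f j) ≫ (b i).left = pullback.snd _ _ ≫ (b j).left := by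
      intro i j
      let O : Over S := Over.mk (pullback.fst (𝒰.f i) (𝒰.f j) ≫ 𝒰.f i ≫ Y.hom)
      let p₁ : O ⟶ Over.mk (𝒰.f i ≫ Y.hom) := Over.homMk (pullback.fst _ _) rfl
      let p₂ : O ⟶ Over.mk (𝒰.f j ≫ Y.hom) := Over.homMk (pullback.snd _ _) (by
        show pullback.snd _ _ ≫ 𝒰.f j ≫ Y.hom = pullback.fst _ _ ≫ 𝒰.f i ≫ Y.hom
        rw [pullback.condition_assoc])
      have hp : p₁ ≫ t i = p₂ ≫ t j := Over.OverMorphism.ext pullback.condition
      refine congrArg Over.Hom.left (inj O (p₁ ≫ b i) (p₂ ≫ b j) ?_)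
      exact (Category.assoc _ _ _).trans ((congrArg (p₁ ≫ ·) (hb i)).trans (((Category.assoc _ _ _).symm.trans (congrArg (· ≫ r) hp)).trans ((Category.assoc _ _ _).trans ((congrArg (p₂ ≫ ·) (hb j)).symm.trans (Category.assoc _ _ _).symm))))
    let a₀ : Y.left ⟶ P.left := Scheme.Cover.glueMorphisms 𝒰 (fun i => (b i).left) hcomp
    have ha : ∀ i, 𝒰.f i ≫ a₀ = (b i).left := fun i => Scheme.Cover.ι_glueMorphisms _ _ _ i
    refine ⟨Over.homMk a₀ (Scheme.Cover.hom_ext 𝒰 _ _ fun i => ?_), Over.OverMorphism.ext (Scheme.Cover.hom_ext 𝒰 _ _ fun i => ?_)⟩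
    · rw [reassoc_of% ha i]
      exact Over.w (b i)
    · show 𝒰.f i ≫ a₀ ≫ θ.left = _
      rw [reassoc_of% ha i]
      exact congrArg Over.Hom.left (hb i)
  obtain ⟨a, ha⟩ := surj R (𝟙 R)
  exact ⟨⟨a, inj P _ _ (by rw [Category.assoc, ha, Category.comp_id, Category.id_comp]), ha⟩⟩

end glue

section spec

variable (B : Type u) [CommRing B]

/-- The spectrum of an algebra as a scheme over the spectrum of the base. -/
abbrev specO (C : Type u) [CommRing C] [Algebra B C] : Over (Spec (CommRingCat.of B)) :=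
  Over.mk (Spec.map (CommRingCat.ofHom (algebraMap B C)))

variable {B}

/-- The morphism given by an algebra map. -/
def specOMap {C D : Type u} [CommRing C] [Algebra B C] [CommRing D] [Algebra B D] (w : C →ₐ[B] D) :
    specO B D ⟶ specO B C :=
  Over.homMk (Spec.map (CommRingCat.ofHom w.toRingHom)) (by
    show Spec.map _ ≫ Spec.map _ = Spec.map _
    rw [← Spec.map_comp, ← CommRingCat.ofHom_comp]
    exact congrArg (fun r => Spec.map (CommRingCat.ofHom r)) w.comp_algebraMap)

theorem specOMap_comp {C D E : Type u} [CommRing C] [Algebra B C] [CommRing D] [Algebra B D] [CommRing E]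
    [Algebra B E] (w : C →ₐ[B] D) (v : D →ₐ[B] E) : specOMap (v.comp w) = specOMap v ≫ specOMap w :=
  Over.OverMorphism.ext (Spec.map_comp (CommRingCat.ofHom w.toRingHom) (CommRingCat.ofHom v.toRingHom))

theorem specOMap_injective {C D : Type u} [CommRing C] [Algebra B C] [CommRing D] [Algebra B D] :
    Function.Injective (specOMap : (C →ₐ[B] D) → _) := fun w v h =>
  AlgHom.coe_ringHom_injective (congrArg CommRingCat.Hom.hom (Spec.map_injective (congrArg Over.Hom.left h)))

theorem specOMap_surjective {C D : Type u} [CommRing C] [Algebra B C] [CommRing D] [Algebra B D]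
    (f : specO B D ⟶ specO B C) : ∃ w : C →ₐ[B] D, specOMap w = f := by
  let ρ : CommRingCat.of C ⟶ CommRingCat.of D := Spec.preimage f.left
  have hρ : CommRingCat.ofHom (algebraMap B C) ≫ ρ = CommRingCat.ofHom (algebraMap B D) := Spec.map_injective (by
    rw [Spec.map_comp, Spec.map_preimage]
    exact Over.w f)
  refine ⟨{ ρ.hom with commutes' := fun b => congrArg (fun m => m.hom b) hρ }, Over.OverMorphism.ext ?_⟩
  exact Spec.map_preimage f.left

variable (B) (B' : Type u) [CommRing B'] [Algebra B B']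

/-- Base change along `Spec B' ⟶ Spec B`. -/
abbrev F : Over (Spec (CommRingCat.of B)) ⥤ Over (Spec (CommRingCat.of B')) :=
  Over.pullback (Spec.map (CommRingCat.ofHom (algebraMap B B')))

/-- Base change of a spectrum. -/
def pi (C : Type u) [CommRing C] [Algebra B C] : (F B B').obj (specO B C) ≅ specO B' (B' ⊗[B] C) :=
  Over.isoMk (pullbackSymmetry _ _ ≪≫ pullbackSpecIso B B' C) (by
    show ((pullbackSymmetry _ _).hom ≫ (pullbackSpecIso B B' C).hom) ≫ Spec.map _ = pullback.snd _ _
    rw [← pullbackSpecIso_inv_fst', Category.assoc, Iso.hom_inv_id_assoc, pullbackSymmetry_hom_comp_fst])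

theorem pi_natural {C D : Type u} [CommRing C] [Algebra B C] [CommRing D] [Algebra B D] (w : C →ₐ[B] D) :
    (F B B').map (specOMap w) ≫ (pi B B' C).hom =
      (pi B B' D).hom ≫ specOMap (Algebra.TensorProduct.map (AlgHom.id B' B') w) := by
  rw [← Iso.eq_comp_inv, Category.assoc, ← Iso.inv_comp_eq]
  refine Over.OverMorphism.ext ?_
  show ((pullbackSpecIso B B' D).inv ≫ (pullbackSymmetry _ _).inv) ≫ pullback.lift _ _ _ =
    Spec.map _ ≫ (pullbackSpecIso B B' C).inv ≫ (pullbackSymmetry _ _).inv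
  refine pullback.hom_ext ?_ ?_
  · rw [Category.assoc, Category.assoc, Category.assoc, Category.assoc, pullback.lift_fst]
    erw [pullbackSymmetry_inv_comp_fst_assoc, pullbackSymmetry_inv_comp_fst, pullbackSpecIso_inv_snd_assoc,
      pullbackSpecIso_inv_snd]
    show Spec.map _ ≫ Spec.map _ = Spec.map _ ≫ Spec.map _
    rw [← Spec.map_comp, ← Spec.map_comp]
    refine congrArg Spec.map (CommRingCat.hom_ext (RingHom.ext fun c => ?_))
    rfl
  · rw [Category.assoc, Category.assoc, Category.assoc, Category.assoc, pullback.lift_snd]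
    erw [pullbackSymmetry_inv_comp_snd, pullbackSymmetry_inv_comp_snd, pullbackSpecIso_inv_fst, pullbackSpecIso_inv_fst,
      ← Spec.map_comp]
    refine congrArg Spec.map (CommRingCat.hom_ext (RingHom.ext fun c => ?_))
    show c ⊗ₜ[B] (1 : D) = Algebra.TensorProduct.map (AlgHom.id B' B') w (c ⊗ₜ[B] (1 : C))
    simp

variable {B B'}

/-- A Weil restriction of an affine scheme is the spectrum of the Weil restriction algebra. -/
theorem exists_iso {A' W : Type u} [CommRing A'] [Algebra B' A'] [CommRing W] [Algebra B W]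
    (ξ : A' →ₐ[B'] B' ⊗[B] W)
    (hξ : ∀ (C : Type u) [CommRing C] [Algebra B C],
      Function.Bijective (fun w : W →ₐ[B] C => (Algebra.TensorProduct.map (AlgHom.id B' B') w).comp ξ))
    {X' : Over (Spec (CommRingCat.of B'))} (iX : X' ≅ specO B' A') {R : Over (Spec (CommRingCat.of B))}
    (e : ∀ Y : Over (Spec (CommRingCat.of B)), (Y ⟶ R) ≃ ((F B B').obj Y ⟶ X'))
    (he : ∀ (Y Z : Over (Spec (CommRingCat.of B))) (h : Y ⟶ Z) (g : Z ⟶ R),
      e Y (h ≫ g) = (F B B').map h ≫ e Z g) :
    ∃ θ : specO B W ≅ R, (F B B').map θ.hom ≫ e R (𝟙 R) = (pi B B' W).hom ≫ specOMap ξ ≫ iX.inv := by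
  let θ : specO B W ⟶ R := (e _).symm ((pi B B' W).hom ≫ specOMap ξ ≫ iX.inv)
  have hθ : e _ θ = (pi B B' W).hom ≫ specOMap ξ ≫ iX.inv := Equiv.apply_symm_apply _ _
  have key : ∀ (C : Type u) [CommRing C] [Algebra B C] (w : W →ₐ[B] C), e _ (specOMap w ≫ θ) =
      (pi B B' C).hom ≫ specOMap ((Algebra.TensorProduct.map (AlgHom.id B' B') w).comp ξ) ≫ iX.inv := by
    intro C _ _ w
    rw [he, hθ, ← Category.assoc, pi_natural, specOMap_comp]
    simp only [Category.assoc]
  have hbij : ∀ (C : Type u) [CommRing C] [Algebra B C],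
      Function.Bijective fun g : specO B C ⟶ specO B W => g ≫ θ := by
    intro C _ _
    refine ⟨fun g₁ g₂ hg => ?_, fun r => ?_⟩
    · obtain ⟨w₁, rfl⟩ := specOMap_surjective g₁
      obtain ⟨w₂, rfl⟩ := specOMap_surjective g₂
      have h' := congrArg (e _) hg
      simp only [key, cancel_epi, cancel_mono] at h'
      exact congrArg specOMap ((hξ C).1 (specOMap_injective h'))
    · obtain ⟨z, hz⟩ := specOMap_surjective ((pi B B' C).inv ≫ e _ r ≫ iX.hom)
      obtain ⟨w, hw⟩ := (hξ C).2 z
      refine ⟨specOMap w, (e _).injective ?_⟩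
      show e _ (specOMap w ≫ θ) = _
      rw [key, show (Algebra.TensorProduct.map (AlgHom.id B' B') w).comp ξ = z from hw, hz]
      simp
  haveI : IsIso θ := isIso_of_affine_bijective θ fun C f => by
    obtain ⟨φ, rfl⟩ : ∃ φ, Spec.map φ = f := ⟨_, Spec.map_preimage f⟩
    letI : Algebra B C := φ.hom.toAlgebra
    exact hbij C
  refine ⟨asIso θ, ?_⟩
  rw [asIso_hom, ← he, Category.comp_id, hθ]

end spec

end Groth.Agent.WeilAlg
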